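import Groth.Agent.L15.SmoothUnibranch.Components
import Groth.Agent.L15.TwUnibranch.Main
import Mathlib.AlgebraicGeometry.Morphisms.UniversallyInjective
import Mathlib.GroupTheory.OrderOfElement

/-!
# Torsors under constant torsion-free groups over geometrically unibranch schemes are trivial
-/

set_option autoImplicit false
set_option linter.style.haveILetI false
set_option backward.isDefEq.respectTransparency.types false

universe u

open CategoryTheory CategoryTheory.Limits AlgebraicGeometry TopologicalSpace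

noncomputable section

namespace Groth.L15.ConstTorsor

variable {X P : Scheme.{u}} (q : X ⟶ P) [Etale q] [Surjective q] {Z : Type u} [Group Z]
  (a : Z → (X ⟶ X)) (ha : ∀ z, a z ≫ q = q)

/-- The sheet of `X ×_P X` attached to an element. -/
def sheet (z : Z) : X ⟶ pullback q q := pullback.lift (a z) (𝟙 X) (by rw [ha, Category.id_comp])

omit [Etale q] [Surjective q] [Group Z] in
@[simp]
theorem sheet_fst (z : Z) : sheet q a ha z ≫ pullback.fst q q = a z := pullback.lift_fst _ _ _

omit [Etale q] [Surjective q] [Group Z] in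
@[simp]
theorem sheet_snd (z : Z) : sheet q a ha z ≫ pullback.snd q q = 𝟙 X := pullback.lift_snd _ _ _

omit [Surjective q] [Group Z] in
theorem isOpenImmersion_sheet (z : Z) : IsOpenImmersion (sheet q a ha z) := by
  haveI : Etale (sheet q a ha z ≫ pullback.snd q q) := by rw [sheet_snd]; infer_instance
  haveI : Etale (sheet q a ha z) := Etale.of_comp _ (pullback.snd q q)
  haveI : IsSplitMono (sheet q a ha z) := IsSplitMono.mk' ⟨pullback.snd q q, sheet_snd q a ha z⟩
  exact IsOpenImmersion.of_flat_of_mono _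

variable (hpt : ∀ w : ↥(pullback q q), ∃! z, w ∈ Set.range (sheet q a ha z))
include hpt

omit [Surjective q] [Group Z] in
theorem isSplit_snd :
    Groth.L25.TwConst.IsSplit (pullback.snd q q) (fun z : Z =>
      haveI := isOpenImmersion_sheet q a ha z
      (sheet q a ha z).opensRange) where
  cover w := (hpt w).exists
  disj w i k hi hk := (hpt w).unique hi hk
  iso z := by
    haveI := isOpenImmersion_sheet q a ha z
    have : (sheet q a ha z).opensRange.ι ≫ pullback.snd q q =
        (sheet q a ha z).isoOpensRange.inv ≫ sheet q a ha z ≫ pullback.snd q q := by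
      rw [← Category.assoc, Scheme.Hom.isoOpensRange_inv_comp]
    rw [this, sheet_snd, Category.comp_id]
    infer_instance

variable (hone : a 1 = 𝟙 X) (hmul : ∀ z w, a (z * w) = a w ≫ a z)
  (hZ : ∀ z : Z, IsOfFinOrder z → z = 1)
include hone hmul hZ

/-- A section over an irreducible open with geometrically unibranch local rings. -/
theorem exists_section_open (C : P.Opens) [IrreducibleSpace C.toScheme]
    (hC : ∀ c : C.toScheme, CAlg2.IsGeomUnibranch (C.toScheme.presheaf.stalk c)) :
    ∃ s : C.toScheme ⟶ X, s ≫ q = C.ι := by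
  let qC := q ∣_ C
  let ι := (q ⁻¹ᵁ C).ι
  have hqι : qC ≫ C.ι = ι ≫ q := morphismRestrict_ι q C
  haveI : Surjective qC := IsZariskiLocalAtTarget.restrict ‹Surjective q› C
  let k : pullback qC qC ⟶ pullback q q := pullback.map qC qC q q ι ι C.ι hqι hqι
  have sqk : IsPullback k (pullback.snd qC qC) (pullback.snd q q) ι := by
    refine IsPullback.of_right ?_ (pullback.lift_snd _ _ _) (IsPullback.of_hasPullback q q)
    rw [pullback.lift_fst, ← hqι]
    exact (IsPullback.of_hasPullback qC qC).paste_horiz (isPullback_morphismRestrict q C).flip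
  obtain ⟨e⟩ := Groth.L25.TwConst.nonempty_iso_const (X := Red.bc qC (Over.mk qC))
    ((isSplit_snd q a ha hpt).baseChange sqk)
  have hX : TwC.IsTwConst TwC.Topology.etale (Over.mk qC) := fun c =>
    ⟨_, qC, inferInstance, qC.surjective c, Z, ⟨e⟩⟩
  obtain ⟨l₁, hl₁⟩ := qC.surjective (genericPoint C.toScheme)
  obtain ⟨U, hU, -, hfin, het, hsurj⟩ :=
    (Groth.L15.TwUnibranch.structure_of_isTwConst hC (Over.mk qC) hX).2.1 l₁ hl₁
  let g : U.toScheme ⟶ C.toScheme := U.ι ≫ qC
  haveI : IsFinite g := hfin
  haveI : Etale g := het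
  haveI : Surjective g := hsurj
  let j : U.toScheme ⟶ X := U.ι ≫ ι
  have hj : g ≫ C.ι = j ≫ q := by simp only [g, j, Category.assoc, hqι]
  obtain ⟨l₀, hl₀⟩ : ∃ l₀ : U.toScheme, U.ι l₀ = l₁ := ⟨⟨l₁, hU.ge (subset_closure rfl)⟩, rfl⟩
  let l : X := j l₀
  have huniq : ∀ p : U.toScheme, g p = genericPoint C.toScheme → p = l₀ := fun p hp =>
    U.ι.isEmbedding.injective ((Groth.L15.TwUnibranch.eq_of_mem_closure qC hC hp hl₁ (subset_closure rfl)
      (hU ▸ p.2)).trans hl₀.symm)
  let m : pullback g g ⟶ pullback q q := pullback.map g g q q j j C.ι hj hj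
  have hmfst : ∀ p, pullback.fst q q (m p) = j (pullback.fst g g p) := fun p => by
    rw [← Scheme.Hom.comp_apply, ← Scheme.Hom.comp_apply, pullback.lift_fst]
  have hmsnd : ∀ p, pullback.snd q q (m p) = j (pullback.snd g g p) := fun p => by
    rw [← Scheme.Hom.comp_apply, ← Scheme.Hom.comp_apply, pullback.lift_snd]
  have hmf : m ≫ pullback.fst q q = pullback.fst g g ≫ j := pullback.lift_fst _ _ _
  have hms : m ≫ pullback.snd q q = pullback.snd g g ≫ j := pullback.lift_snd _ _ _
  haveI : Mono m := ⟨fun {W} b c hbc => pullback.hom_ext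
    ((cancel_mono j).1 (by rw [Category.assoc, Category.assoc, ← hmf, reassoc_of% hbc]))
    ((cancel_mono j).1 (by rw [Category.assoc, Category.assoc, ← hms, reassoc_of% hbc]))⟩
  let H : Set Z := {z | a z l = l}
  have hH : H.Finite := by
    refine Set.Finite.of_finite_image (f := fun z => sheet q a ha z l) ?_ fun z _ w _ hzw =>
      (hpt (sheet q a ha z l)).unique ⟨l, rfl⟩ ⟨l, hzw.symm⟩
    refine (((pullback.snd g g).finite_preimage_singleton l₀).image m).subset ?_
    rintro _ ⟨z, hz, rfl⟩
    have hf : pullback.fst q q (sheet q a ha z l) = l := by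
      rw [← Scheme.Hom.comp_apply, sheet_fst]; exact hz
    have hs : pullback.snd q q (sheet q a ha z l) = l := by
      rw [← Scheme.Hom.comp_apply, sheet_snd]; rfl
    obtain ⟨p, hp⟩ : sheet q a ha z l ∈ Set.range m := by
      rw [Scheme.Pullback.range_map]
      exact ⟨⟨l₀, hf.symm⟩, ⟨l₀, hs.symm⟩⟩
    refine ⟨p, j.isOpenEmbedding.injective ?_, hp⟩
    rw [← hmsnd, hp, hs]
  have hstab : ∀ z ∈ H, z = 1 := fun z hz => hZ z (finite_powers.mp (hH.subset (by
    rintro _ ⟨n, rfl⟩
    show a (z ^ n) l = l
    induction n with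
    | zero => rw [pow_zero, hone]; rfl
    | succ n ih => rw [pow_succ, hmul, Scheme.Hom.comp_apply, hz, ih])))
  haveI : Surjective (pullback.diagonal g) := ⟨fun z => by
    let σ := pullback.fst g g ≫ g
    haveI : Etale (pullback.fst g g) := MorphismProperty.pullback_fst g g ‹_›
    haveI : Etale σ := inferInstance
    obtain ⟨z₀, hz₀, hzz⟩ := Groth.L15.TwUnibranch.exists_over_generic σ z
    refine (pullback.diagonal g).isClosedEmbedding.isClosed_range.stableUnderSpecialization hzz ?_
    have h1 : pullback.fst g g z₀ = l₀ := huniq _ ((Scheme.Hom.comp_apply _ _ _).symm.trans hz₀)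
    have h2 : pullback.snd g g z₀ = l₀ := huniq _ (by
      rw [← Scheme.Hom.comp_apply, ← pullback.condition]
      exact hz₀)
    obtain ⟨w, ⟨x, hx⟩, -⟩ := hpt (m z₀)
    have hxl : x = l := by
      have h3 := congrArg (pullback.snd q q) hx
      rw [hmsnd, h2, ← Scheme.Hom.comp_apply, sheet_snd] at h3
      exact h3
    have hwH : w ∈ H := by
      have h3 := congrArg (pullback.fst q q) hx
      rw [hmfst, h1, ← Scheme.Hom.comp_apply, sheet_fst, hxl] at h3
      exact h3
    obtain rfl := hstab w hwH
    refine ⟨l₀, ?_⟩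
    refine m.injective ?_
    rw [← hx, hxl, ← Scheme.Hom.comp_apply]
    have he : pullback.diagonal g ≫ m = j ≫ sheet q a ha 1 := by
      apply pullback.hom_ext
      · rw [Category.assoc, hmf, ← Category.assoc, pullback.diagonal_fst, Category.assoc, sheet_fst, hone]
        exact (Category.id_comp j).trans (Category.comp_id j).symm
      · rw [Category.assoc, hms, ← Category.assoc, pullback.diagonal_snd, Category.assoc, sheet_snd]
        exact (Category.id_comp j).trans (Category.comp_id j).symm
    rw [he]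
    rfl⟩
  haveI : UniversallyInjective g := (UniversallyInjective.iff_diagonal g).2 ‹_›
  haveI := Groth.L23.isOpenImmersion_of_etale_univInjective g
  haveI : IsIso g := (isIso_iff_isOpenImmersion_and_surjective g).2 ⟨inferInstance, inferInstance⟩
  exact ⟨inv g ≫ j, by rw [Category.assoc, ← hj, IsIso.inv_hom_id_assoc]⟩

/-- Over a scheme smooth over an irreducible geometrically unibranch one there is a section. -/
theorem exists_section {S : Scheme.{u}} [IrreducibleSpace S]
    (hS : ∀ s : S, CAlg2.IsGeomUnibranch (S.presheaf.stalk s)) (f : P ⟶ S) [Smooth f] :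
    ∃ s : P ⟶ X, s ≫ q = 𝟙 P := by
  let V : ↥(irreducibleComponents (P : Type u)) → P.Opens := fun T =>
    ⟨T, Groth.L15.SmoothUnibranch.isOpen_irreducibleComponent hS f T.2⟩
  have hex : ∀ T, ∃ s : (V T).toScheme ⟶ X, s ≫ q = (V T).ι := fun T => by
    haveI : IrreducibleSpace (V T).toScheme := by
      obtain ⟨hne, hpre⟩ := T.2.1
      haveI : Nonempty (V T).toScheme := ⟨⟨hne.some, hne.some_mem⟩⟩
      haveI : PreirreducibleSpace (V T).toScheme := by
        refine ⟨?_⟩
        have := hpre.preimage (V T).ι.isOpenEmbedding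
        have hu : (V T).ι ⁻¹' (T : Set P) = Set.univ := Set.eq_univ_of_forall fun w => w.2
        rwa [hu] at this
      exact ⟨inferInstance⟩
    exact exists_section_open q a ha hpt hone hmul hZ (V T) fun c =>
      Groth.L15.SmoothUnibranch.isGeomUnibranch_stalk ((V T).ι ≫ f) c (hS _)
  choose s hs using hex
  let 𝒰 : P.OpenCover := P.openCoverOfIsOpenCover V (eq_top_iff.mpr fun x _ =>
    Opens.mem_iSup.mpr ⟨⟨irreducibleComponent x, irreducibleComponent_mem_irreducibleComponents x⟩,
      mem_irreducibleComponent⟩)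
  let F : P ⟶ X := 𝒰.glueMorphisms s fun T T' => by
    by_cases hT : T = T'
    · subst hT
      have : pullback.fst (𝒰.f T) (𝒰.f T) = pullback.snd (𝒰.f T) (𝒰.f T) :=
        (cancel_mono (𝒰.f T)).1 pullback.condition
      rw [this]
    · haveI : IsEmpty ↥(pullback (𝒰.f T) (𝒰.f T')) := ⟨fun p => hT (by
        have h1 : (V T).ι (pullback.fst (𝒰.f T) (𝒰.f T') p) = (V T').ι (pullback.snd (𝒰.f T) (𝒰.f T') p) :=
          congrArg (fun φ : pullback (𝒰.f T) (𝒰.f T') ⟶ P => φ p) pullback.condition
        refine Subtype.ext ?_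
        rw [Groth.L15.SmoothUnibranch.eq_irreducibleComponent hS f T.2 (pullback.fst (𝒰.f T) (𝒰.f T') p).2,
          Groth.L15.SmoothUnibranch.eq_irreducibleComponent hS f T'.2 (pullback.snd (𝒰.f T) (𝒰.f T') p).2]
        exact congrArg irreducibleComponent h1)⟩
      exact (isInitialOfIsEmpty (X := pullback (𝒰.f T) (𝒰.f T'))).hom_ext _ _
  refine ⟨F, 𝒰.hom_ext _ _ fun T => ?_⟩
  rw [← Category.assoc, Category.comp_id]
  exact (congrArg (· ≫ q) (Scheme.Cover.ι_glueMorphisms 𝒰 s _ T)).trans (hs T)

end Groth.L15.ConstTorsor
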