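import Groth.Agent.L15.ConstTorsor.Pieces
import Groth.Agent.L09.TorsorSch
import Groth.Agent.L28.Ext.Etale
import Groth.Prelude.Def_TwC
import Groth.Prelude.Def_NonAbH2

/-!
# Translations of a torsor under a constant group
-/

set_option autoImplicit false
set_option linter.style.haveILetI false
set_option backward.isDefEq.respectTransparency.types false

universe u

open CategoryTheory CategoryTheory.Limits MonoidalCategory CartesianMonoidalCategory MonObj AlgebraicGeometry

noncomputable section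

namespace Groth.L15.ConstTorsor

variable {B : Scheme.{u}} {G : Over B} {Z : Type u} (eG : G ≅ TwC.const B Z) (X : Over B)

/-- The point of `G` of index `z`, over any base. -/
def pointG (z : Z) : X ⟶ G := toUnit X ≫ TwC.pt B Z z ≫ eG.inv

/-- The sheet `x ↦ (z, x)`. -/
def sheetG (z : Z) : X ⟶ G ⊗ X := lift (pointG eG X z) (𝟙 X)

theorem sheetG_apply_hom (z : Z) (x : X.left) :
    eG.hom.left ((fst G X).left ((sheetG eG X z).left x)) = Sigma.ι (fun _ : Z => B) z (X.hom x) := by
  have h : sheetG eG X z ≫ fst G X ≫ eG.hom = toUnit X ≫ TwC.pt B Z z := by simp [sheetG, pointG]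
  exact congrArg (fun φ : X ⟶ TwC.const B Z => φ.left x) h

theorem existsUnique_sheetG (p : (G ⊗ X).left) : ∃! z, p ∈ Set.range (sheetG eG X z).left := by
  let π := (G ⊗ X).left.fromSpecResidueField p
  let T : Over B := Over.mk (π ≫ (G ⊗ X).hom)
  let π' : T ⟶ G ⊗ X := Over.homMk π
  let g : T ⟶ TwC.const B Z := π' ≫ fst G X ≫ eG.hom
  let pt : T.left := IsLocalRing.closedPoint _
  obtain ⟨z, t, ht⟩ := (sigmaOpenCover (fun _ : Z => B)).exists_eq (g.left pt)
  have hrange : Set.range g.left ⊆ Set.range (Sigma.ι (fun _ : Z => B) z) := by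
    rintro _ ⟨y, rfl⟩
    exact ⟨t, ht.trans (congrArg g.left (Subsingleton.elim (α := PrimeSpectrum ((G ⊗ X).left.residueField p)) pt y))⟩
  let l : T.left ⟶ B := IsOpenImmersion.lift (Sigma.ι (fun _ : Z => B) z) g.left hrange
  have hl : l ≫ Sigma.ι (fun _ : Z => B) z = g.left := IsOpenImmersion.lift_fac _ _ _
  have hlT : l = T.hom := by
    have h := Over.w g
    rw [← hl, Category.assoc] at h
    erw [Sigma.ι_desc] at h
    exact (Category.comp_id l).symm.trans h
  have hg : g = toUnit T ≫ TwC.pt B Z z := Over.OverMorphism.ext (by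
    rw [← hl, hlT]
    simp [TwC.pt])
  have hπ : π' = (π' ≫ snd G X) ≫ sheetG eG X z := by
    apply CartesianMonoidalCategory.hom_ext
    · simp only [sheetG, pointG, Category.assoc, lift_fst, comp_toUnit_assoc]
      rw [← cancel_mono eG.hom, Category.assoc, Category.assoc, Category.assoc, Iso.inv_hom_id, Category.comp_id]
      exact hg
    · simp [sheetG]
  refine ⟨z, ⟨(π' ≫ snd G X).left pt, ?_⟩, ?_⟩
  · exact (congrArg (fun φ : T ⟶ G ⊗ X => φ.left pt) hπ).symm.trans
      (Scheme.fromSpecResidueField_apply p _)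
  · rintro w ⟨x, hx⟩
    obtain ⟨y, hy⟩ : p ∈ Set.range (sheetG eG X z).left := ⟨(π' ≫ snd G X).left pt,
      (congrArg (fun φ : T ⟶ G ⊗ X => φ.left pt) hπ).symm.trans (Scheme.fromSpecResidueField_apply p _)⟩
    have h := congrArg (fun r => eG.hom.left ((fst G X).left r)) (hx.trans hy.symm)
    simp only [sheetG_apply_hom] at h
    have key : ∀ (i k : Z) (b c : B),
        Sigma.ι (fun _ : Z => B) i b = Sigma.ι (fun _ : Z => B) k c → i = k := fun i k b c h => by
      obtain ⟨rfl⟩ := (sigmaι_eq_iff _ _ _ _ _).mp h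
      rfl
    exact key _ _ _ _ h

variable [GrpObj G] [Group Z] (hG : TwC.IsConstGrp Z G eG)
include hG

theorem pointG_mul (z w : Z) : pointG eG X z * pointG eG X w = pointG eG X (z * w) := by
  rw [pointG, pointG, pointG, ← MonObj.comp_mul, hG]

theorem pointG_one : pointG eG X (1 : Z) = 1 := by
  have h := pointG_mul eG X hG 1 1
  rw [_root_.one_mul] at h
  exact mul_eq_left.mp h

/-- A torsor under a constant torsion-free group over a scheme smooth over an irreducible
geometrically unibranch one has a section. -/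
theorem exists_section_torsor {S : Scheme.{u}} [IrreducibleSpace S]
    (hS : ∀ s : S, CAlg2.IsGeomUnibranch (S.presheaf.stalk s)) (f : B ⟶ S) [Smooth f]
    (hZ : ∀ z : Z, IsOfFinOrder z → z = 1)
    (a : AlgGrp.Action G X) (ha : NonAbH1.IsPseudoTorsorSch a) [Etale X.hom] [Surjective X.hom] :
    ∃ s : B ⟶ X.left, s ≫ X.hom = 𝟙 B := by
  haveI : IsIso (lift a.act (snd G X)) := ha
  let Φ := (lift a.act (snd G X)).left
  haveI : IsIso Φ := Groth.L09.TorsorSch.isIso_left _
  let t : Z → (X.left ⟶ X.left) := fun z => (sheetG eG X z ≫ a.act).left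
  have ht : ∀ z, t z ≫ X.hom = X.hom := fun z => Over.w (sheetG eG X z ≫ a.act)
  have hΦ : ∀ z, (sheetG eG X z).left ≫ Φ = sheet X.hom t ht z := fun z => by
    have h : sheetG eG X z ≫ lift a.act (snd G X) = lift (sheetG eG X z ≫ a.act) (𝟙 X) := by
      simp [sheetG]
    show (sheetG eG X z).left ≫ (lift a.act (snd G X)).left = _
    rw [← Over.comp_left, h]
    apply pullback.hom_ext
    · rw [sheet_fst]
      exact congrArg CommaMorphism.left (lift_fst (sheetG eG X z ≫ a.act) (𝟙 X))
    · rw [sheet_snd]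
      exact congrArg CommaMorphism.left (lift_snd (sheetG eG X z ≫ a.act) (𝟙 X))
  have hpt : ∀ w, ∃! z, w ∈ Set.range (sheet X.hom t ht z) := fun w => by
    obtain ⟨p, rfl⟩ : ∃ p, Φ p = w := Φ.homeomorph.surjective w
    obtain ⟨z, ⟨x, hx⟩, hu⟩ := existsUnique_sheetG eG X p
    refine ⟨z, ⟨x, by rw [← hΦ, Scheme.Hom.comp_apply, hx]⟩, fun w' hw' => hu w' ?_⟩
    obtain ⟨x', hx'⟩ := hw'
    rw [← hΦ, Scheme.Hom.comp_apply] at hx'
    exact ⟨x', Φ.homeomorph.injective hx'⟩
  refine exists_section X.hom t ht hpt ?_ (fun z w => ?_) hZ hS f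
  · show (sheetG eG X 1 ≫ a.act).left = (𝟙 X : X ⟶ X).left
    rw [sheetG, pointG_one eG X hG, Groth.L25.Actions.one_act]
  · show (sheetG eG X (z * w) ≫ a.act).left = ((sheetG eG X w ≫ a.act) ≫ (sheetG eG X z ≫ a.act)).left
    rw [sheetG, sheetG, sheetG, ← pointG_mul eG X hG, Groth.L25.Actions.mul_act, ← Category.assoc,
      comp_lift]
    simp [pointG]

omit hG [Group Z] in
include eG in
/-- For a torsor under a constant group, the projection is étale and surjective. -/
theorem etale_surjective_torsor (a : AlgGrp.Action G X)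
    (ha : NonAbH1.IsTorsorFor Scheme.fppfPrecoverage a) : Etale X.hom ∧ Surjective X.hom := by
  have hE : Etale G.hom := by
    haveI := Groth.L28.Ext.etale_const_hom (S := B) Z
    rw [← Over.w eG.hom]
    haveI : IsIso eG.hom.left := (Over.forget B).map_isIso eG.hom
    infer_instance
  have ha' : NonAbH1.IsTorsorFor Scheme.fpqcPrecoverage a := by
    obtain ⟨h, R, hR, hs⟩ := ha
    exact ⟨h, R, Scheme.fppfPrecoverage_le_fpqcPrecoverage _ hR, hs⟩
  haveI := Groth.L25.Actions.descendsAlong_flat_fpqc.{u}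
  exact ⟨Groth.L09.TorsorSch.of_grp @Etale a ha' hE,
    Groth.L09.TorsorSch.of_grp @Surjective a ha' (Groth.L25.Actions.surjective_grp G)⟩

end Groth.L15.ConstTorsor
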